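import Mathlib

/-! Ideals of a curve singularity contain conductor shifts of their branch orders. -/

universe u

namespace Groth.Agent.HilbCond1

theorem mem_of_order (k : Type u) [Field k] (s : ℕ) (R : Subalgebra k (Fin s → PowerSeries k))
    (c : Fin s → ℕ)
    (hc : ∀ f : Fin s → PowerSeries k,
      (∀ g : Fin s → PowerSeries k, g * f ∈ R) ↔ ∀ i, ((c i : ℕ) : ℕ∞) ≤ (f i).order)
    (J : Ideal ↥R) (l : Fin s → ℕ)
    (hl : ∀ i : Fin s, ∃ f ∈ J, ((f : Fin s → PowerSeries k) i).order = ((l i : ℕ) : ℕ∞))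
    (g : Fin s → PowerSeries k) (hg : ∀ i : Fin s, ((l i + c i : ℕ) : ℕ∞) ≤ (g i).order) :
    ∃ hgR : g ∈ R, (⟨g, hgR⟩ : ↥R) ∈ J := by
  classical
  choose f hfJ hford using hl
  have hh : ∀ i, ∃ h : PowerSeries k, ((c i : ℕ) : ℕ∞) ≤ h.order ∧ (f i : Fin s → PowerSeries k) i * h = g i := by
    intro i
    set F : PowerSeries k := (f i : Fin s → PowerSeries k) i
    obtain ⟨F', hF'⟩ := PowerSeries.X_pow_order_dvd (φ := F)
    have hlF : F.order.toNat = l i := by rw [hford i]; rfl
    rw [hlF] at hF'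
    obtain ⟨G, hG⟩ : PowerSeries.X ^ (l i + c i) ∣ g i := by
      rw [PowerSeries.X_pow_dvd_iff]
      exact fun m hm => PowerSeries.coeff_of_lt_order m (lt_of_lt_of_le (by exact_mod_cast hm) (hg i))
    have hu : IsUnit F' := by
      rw [PowerSeries.isUnit_iff_constantCoeff, isUnit_iff_ne_zero]
      intro h0
      have : PowerSeries.coeff (l i) F = 0 := by
        rw [hF', PowerSeries.coeff_X_pow_mul']
        simpa using h0
      exact PowerSeries.coeff_order (φ := F) (by rw [← PowerSeries.order_finite_iff_ne_zero, hford i]; simp) (by rwa [hlF])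
    obtain ⟨u, rfl⟩ := hu
    refine ⟨PowerSeries.X ^ c i * ((↑u⁻¹ : PowerSeries k) * G), ?_, ?_⟩
    · refine le_trans ?_ (PowerSeries.le_order_mul _ _)
      rw [PowerSeries.order_X_pow]; exact le_self_add
    · rw [hF', hG, pow_add]
      calc PowerSeries.X ^ l i * ↑u * (PowerSeries.X ^ c i * (↑u⁻¹ * G))
          = PowerSeries.X ^ l i * PowerSeries.X ^ c i * ((u : PowerSeries k) * ↑u⁻¹) * G := by ring
        _ = _ := by rw [Units.mul_inv, mul_one]
  choose h hhord hh using hh
  have hR : ∀ i, (Pi.single i (h i) : Fin s → PowerSeries k) ∈ R := fun i => by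
    have := (hc (Pi.single i (h i))).2 (fun j => by
      by_cases hji : j = i
      · subst hji; simpa using hhord j
      · simp [Pi.single_eq_of_ne hji]) 1
    simpa using this
  have hsum : g = ((∑ i, f i * ⟨Pi.single i (h i), hR i⟩ : ↥R) : Fin s → PowerSeries k) := by
    rw [AddSubmonoidClass.coe_finsetSum]
    funext j
    rw [Finset.sum_apply, Finset.sum_eq_single j]
    · simp [hh j]
    · intro b _ hb; simp [Pi.single_eq_of_ne' hb]
    · simp
  subst hsum
  refine ⟨SetLike.coe_mem _, ?_⟩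
  simp only [Subtype.coe_eta]
  exact Ideal.sum_mem _ fun i _ => Ideal.mul_mem_right _ _ (hfJ i)

theorem exists_order_eq {k : Type u} [Field k] {A : Type u} [CommRing A] (φ : A →+* PowerSeries k) (I : Ideal A)
    (a : ℕ) (h : Ideal.map φ I = Ideal.span {PowerSeries.X ^ a}) :
    (∃ f ∈ I, (φ f).order = (a : ℕ∞)) ∧ ∀ f ∈ I, (a : ℕ∞) ≤ (φ f).order := by
  have h2 : ∀ f ∈ I, (a : ℕ∞) ≤ (φ f).order := fun f hf => by
    obtain ⟨g, hg⟩ := Ideal.mem_span_singleton.1 (h ▸ Ideal.mem_map_of_mem φ hf)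
    rw [hg]
    refine le_trans ?_ (PowerSeries.le_order_mul _ _)
    rw [PowerSeries.order_X_pow]; exact le_self_add
  refine ⟨?_, h2⟩
  by_contra hno
  push_neg at hno
  have hle : Ideal.map φ I ≤ Ideal.span {PowerSeries.X ^ (a + 1)} := by
    refine Ideal.map_le_iff_le_comap.2 fun f hf => Ideal.mem_span_singleton.2 (PowerSeries.X_pow_dvd_iff.2 fun m hm => ?_)
    refine PowerSeries.coeff_of_lt_order m (lt_of_lt_of_le (show (m : ℕ∞) < ((a + 1 : ℕ) : ℕ∞) by exact_mod_cast hm) ?_)
    have := lt_of_le_of_ne (h2 f hf) (Ne.symm (hno f hf))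
    push_cast
    exact Order.add_one_le_of_lt this
  have := PowerSeries.X_pow_dvd_iff.1 (Ideal.mem_span_singleton.1 (hle (h.symm ▸ Ideal.mem_span_singleton_self _)))
    a (Nat.lt_succ_self a)
  simp at this

end Groth.Agent.HilbCond1
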